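import Groth.Agent.UnivOpen.SectionUnivOpen

/-!
# A dominating point inside the section component

A variant of `UnivOpen.exists_dominating` which remembers where the dominating point lives.
-/

set_option autoImplicit false
set_option linter.style.haveILetI false

open AlgebraicGeometry CategoryTheory Limits Topology

namespace Groth.Agent.H1W

universe u

variable {X Y : Scheme.{u}} (f : X ⟶ Y)

open UnivOpen in
theorem exists_dominating' [LocallyOfFiniteType f] {g : Y ⟶ X} (hg : g ≫ f = 𝟙 Y)
    (hgi : ∀ (y : Y) (K : Type u) [Field K] [Algebra (IsLocalRing.ResidueField (Y.presheaf.stalk y)) K],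
      IsIrreducible ((FBase.bcπ (f.fiberToSpecResidueField y) K ≫ f.fiberι y).base ⁻¹' (connectedComponentIn (f.base ⁻¹' {y}) (g.base y))))
    {Y' : Scheme.{u}} (τ : Y' ⟶ Y) {c t : Y'} (htc : t ⤳ c)
    (hle : topologicalKrullDim ↥(connectedComponentIn (f.base ⁻¹' {τ c}) (g.base (τ c))) ≤
      topologicalKrullDim ↥(connectedComponentIn (f.base ⁻¹' {τ t}) (g.base (τ t)))) :
    ∃ z' : ↥(pullback f τ), pullback.snd f τ z' = t ∧
      pullback.fst f τ z' ∈ connectedComponentIn (f.base ⁻¹' {τ t}) (g.base (τ t)) ∧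
      ∀ v, pullback.snd f τ v = c →
        pullback.fst f τ v ∈ connectedComponentIn (f.base ⁻¹' {τ c}) (g.base (τ c)) → z' ⤳ v := by
  have hirr := irreducible_of_geomIrreducible f hgi
  obtain ⟨ζ, hfζ, hζg, hζm, hζC, hζv, hdc⟩ := exists_component_generic f (apply_section hg (τ c)) (hirr _)
  obtain ⟨ξ₁, hfξ₁, hξ₁g, -, -, -, hdt⟩ := exists_component_generic f (apply_section hg (τ t)) (hirr _)
  rw [dim_component f (apply_section hg _) (hirr _), dim_component f (apply_section hg _) (hirr _), hdc, hdt] at hle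
  have hle' : FibDim.rd f ζ ≤ FibDim.rd f ξ₁ := by exact_mod_cast hle
  -- the generic point of the points over `C` and `c`
  have hS := isIrreducible_preimage_over f τ c rfl _ (connectedComponentIn_subset _ _) (hgi (τ c))
  let S := {v : ↥(pullback f τ) | pullback.snd f τ v = c ∧
    pullback.fst f τ v ∈ connectedComponentIn (f.base ⁻¹' {τ c}) (g.base (τ c))}
  let ω := hS.genericPoint
  have hω : IsGenericPoint ω (closure S) := hS.isGenericPoint_genericPoint_closure
  -- the section of the base change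
  let g' : Y' ⟶ pullback f τ := pullback.lift (τ ≫ g) (𝟙 Y') (by rw [Category.assoc, hg, Category.comp_id, Category.id_comp])
  have hg' : g' ≫ pullback.snd f τ = 𝟙 Y' := pullback.lift_snd _ _ _
  have hg'₁ : g' ≫ pullback.fst f τ = τ ≫ g := pullback.lift_fst _ _ _
  haveI : LocallyOfFiniteType (pullback.snd f τ) := inferInstance
  -- a top point over the generic fibre
  have hgt : pullback.fst f τ (g' t) = g (τ t) := by rw [← Scheme.Hom.comp_apply, hg'₁]; rfl
  have hS₁ := isIrreducible_preimage_over f τ t rfl _ (connectedComponentIn_subset _ _) (hgi (τ t))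
  obtain ⟨v₁, hv₁p, hv₁q, hv₁r⟩ := FibDim.exists_rd_baseChange_eq (IsPullback.of_hasPullback f τ) ξ₁ t hfξ₁
  let S₁ := {v : ↥(pullback f τ) | pullback.snd f τ v = t ∧
    pullback.fst f τ v ∈ connectedComponentIn (f.base ⁻¹' {τ t}) (g.base (τ t))}
  let ω₁ := hS₁.genericPoint
  have hω₁ : IsGenericPoint ω₁ (closure S₁) := hS₁.isGenericPoint_genericPoint_closure
  have hqω₁ : pullback.snd f τ ω₁ = t := by
    have hmem : g' t ∈ S₁ := ⟨apply_section hg' t, by rw [hgt]; exact mem_connectedComponentIn (apply_section hg _)⟩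
    have h1 : pullback.snd f τ ω₁ ⤳ t :=
      ((hω₁.specializes (subset_closure hmem)).map (pullback.snd f τ).continuous).trans (specializes_of_eq (apply_section hg' t))
    have h2 : t ⤳ pullback.snd f τ ω₁ := by
      rw [specializes_iff_mem_closure]
      refine closure_mono ?_ (image_closure_subset_closure_image (pullback.snd f τ).continuous ⟨ω₁, hω₁.mem, rfl⟩)
      exact Set.image_subset_iff.2 fun v hv => hv.1
    exact (h1.antisymm h2).eq
  have hmem₁ : g' t ∈ S₁ := ⟨apply_section hg' t, by rw [hgt]; exact mem_connectedComponentIn (apply_section hg _)⟩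
  have hξ₁C : ξ₁ ∈ connectedComponentIn (f.base ⁻¹' {τ t}) (g.base (τ t)) := by
    obtain ⟨ζ₁, hfζ₁, -, hζ₁m, hζ₁C, hζ₁v, -⟩ := exists_component_generic f (apply_section hg (τ t)) (hirr _)
    rw [hζ₁C]
    exact ⟨specializes_iff_mem_closure.1 (hζ₁v ξ₁ hfξ₁ hξ₁g), hfξ₁⟩
  have hr₁ : FibDim.rd (pullback.snd f τ) v₁ ≤ FibDim.rd (pullback.snd f τ) ω₁ :=
    FibDim.rd_le_of_specializes _ (hω₁.specializes (subset_closure ⟨hv₁q, hv₁p ▸ hξ₁C⟩)) (hqω₁.trans hv₁q.symm)
  obtain ⟨z, hωz, hzg, hqz, hrz⟩ := FibDim.exists_rd_ge (pullback.snd f τ)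
    ((hω₁.specializes (subset_closure hmem₁)).trans (htc.map g'.continuous))
  rw [apply_section hg'] at hqz
  have hzS : z ∈ S := by
    refine ⟨hqz, ?_⟩
    rw [hζC]
    have hfz : f (pullback.fst f τ z) = τ c := by
      rw [← Scheme.Hom.comp_apply, pullback.condition, Scheme.Hom.comp_apply, hqz]
    have h1 : pullback.fst f τ z ⤳ g (τ c) := by
      have := hzg.map (pullback.fst f τ).continuous
      rwa [← Scheme.Hom.comp_apply g', hg'₁] at this
    exact ⟨specializes_iff_mem_closure.1 (hζv _ hfz h1), hfz⟩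
  have hqω : pullback.snd f τ ω = c := by
    have h1 : pullback.snd f τ ω ⤳ c :=
      ((hω.specializes (subset_closure hzS)).map (pullback.snd f τ).continuous).trans (specializes_of_eq hqz)
    have h2 : c ⤳ pullback.snd f τ ω := by
      rw [specializes_iff_mem_closure]
      refine closure_mono ?_ (image_closure_subset_closure_image (pullback.snd f τ).continuous ⟨ω, hω.mem, rfl⟩)
      exact Set.image_subset_iff.2 fun v hv => hv.1
    exact (h1.antisymm h2).eq
  have hrω : FibDim.rd (pullback.snd f τ) ω ≤ FibDim.rd f ζ := by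
    refine (FibDim.rd_baseChange_le (IsPullback.of_hasPullback f τ) ω).trans ?_
    have hpω : pullback.fst f τ ω ⤳ g (τ c) := by
      have := ((hω.specializes (subset_closure hzS)).trans hzg).map (pullback.fst f τ).continuous
      rwa [← Scheme.Hom.comp_apply g', hg'₁] at this
    have hfp : f (pullback.fst f τ ω) = τ c := by
      rw [← Scheme.Hom.comp_apply, pullback.condition, Scheme.Hom.comp_apply, hqω]
    exact FibDim.rd_le_of_specializes f (hζv _ hfp hpω) (hfζ.trans hfp.symm)
  have hzω : z = ω := by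
    by_contra hne
    have := FibDim.rd_lt (pullback.snd f τ) (hω.specializes (subset_closure hzS)) (Ne.symm hne) (hqω.trans hqz.symm)
    omega
  refine ⟨ω₁, hqω₁, ?_, fun v hv hvC => hωz.trans ((specializes_of_eq hzω).trans (hω.specializes (subset_closure ⟨hv, hvC⟩)))⟩
  obtain ⟨ζ₁, -, -, -, hζ₁C, -, -⟩ := exists_component_generic f (apply_section hg (τ t)) (hirr _)
  rw [hζ₁C]
  refine ⟨?_, ?_⟩
  · refine closure_minimal ?_ isClosed_closure (image_closure_subset_closure_image (pullback.fst f τ).continuous ⟨ω₁, hω₁.mem, rfl⟩)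
    rintro _ ⟨v, hv, rfl⟩
    exact (hζ₁C ▸ hv.2 : pullback.fst f τ v ∈ closure {ζ₁} ∩ _).1
  · show f (pullback.fst f τ ω₁) = τ t
    rw [← Scheme.Hom.comp_apply, pullback.condition, Scheme.Hom.comp_apply, hqω₁]

end Groth.Agent.H1W
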