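import Groth.Agent.H1Spread.IrredConst
import Groth.Agent.UnivOpen.SectionUnivOpen
import Groth.Agent.FlatMisc.DimNear
import Groth.Agent.ConsPropLib.Cores
import Groth.Agent.MorLib.LimPro
import Groth.Agent.S1324
import Groth.Agent.S9218
import Mathlib

/-!
# Geometrically irreducible section components: constructibility and Noetherian models
-/

universe u

set_option backward.isDefEq.respectTransparency false
set_option backward.isDefEq.respectTransparency.types false
set_option maxHeartbeats 1000000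
set_option linter.style.haveILetI false

open AlgebraicGeometry CategoryTheory CategoryTheory.Limits TopologicalSpace Topology IsLocalRing

noncomputable section

namespace Groth.Agent.H1W
open Groth.Agent.H1Near

variable {X Y : Scheme.{u}}

/-- The component of the section in the fibre over `y` is geometrically irreducible. -/
def GI (f : X ⟶ Y) (g : Y ⟶ X) (y : Y) : Prop :=
  ∀ (F : Type u) [Field F] [IsAlgClosed F] (τ : Spec (CommRingCat.of F) ⟶ Y), τ (spt F) = y →
    IsIrreducible ((pullback.fst f τ) ⁻¹' MoreMor.sectionComponents f g)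

/-- `GI` and the relative dimension at the section is `d`. -/
def GD (f : X ⟶ Y) (g : Y ⟶ X) (d : WithBot ℕ∞) (y : Y) : Prop := GI f g y ∧ FlatMor.fibreDimAt f (g y) = d

theorem mem_sc_iff (f : X ⟶ Y) (g : Y ⟶ X) {x : X} {y : Y} (hy : f x = y) :
    x ∈ MoreMor.sectionComponents f g ↔ x ∈ connectedComponentIn (f.base ⁻¹' {y}) (g.base y) := by
  subst hy; rfl

theorem GI_of_hirr (f : X ⟶ Y) (g : Y ⟶ X) (y : Y)
    (hirr : ∀ (K : Type u) [Field K] [Algebra (IsLocalRing.ResidueField (Y.presheaf.stalk y)) K],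
      IsIrreducible ((FBase.bcπ (f.fiberToSpecResidueField y) K ≫ f.fiberι y).base ⁻¹' connectedComponentIn (f.base ⁻¹' {y}) (g.base y))) :
    GI f g y := by
  intro F _ _ τ hτ
  have h := UnivOpen.isIrreducible_preimage_over f τ (spt F) hτ _ (connectedComponentIn_subset _ _) hirr
  convert h using 1
  ext v
  have h1 : pullback.snd f τ v = spt F := Subsingleton.elim (α := PrimeSpectrum F) _ _
  have hy : f (pullback.fst f τ v) = y := by
    rw [← Scheme.Hom.comp_apply, pullback.condition, Scheme.Hom.comp_apply, h1, hτ]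
  exact ⟨fun hv => ⟨h1, (mem_sc_iff f g hy).1 hv⟩, fun hv => (mem_sc_iff f g hy).2 hv.2⟩

theorem isIrreducible_preimage_comp (f : X ⟶ Y) {T T' : Scheme.{u}} (a : T' ⟶ T) [Surjective a] (τ : T ⟶ Y)
    (E : Set X) (h : IsIrreducible ((pullback.fst f (a ≫ τ)) ⁻¹' E)) :
    IsIrreducible ((pullback.fst f τ) ⁻¹' E) := by
  let m : pullback f (a ≫ τ) ⟶ pullback f τ := pullback.map _ _ _ _ (𝟙 X) a (𝟙 Y) (by simp) (by simp)
  have hm : Function.Surjective m := by
    rw [← Set.range_eq_univ, Scheme.Pullback.range_map]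
    simp [a.surjective.range_eq]
  have hmf : ∀ v, pullback.fst f τ (m v) = pullback.fst f (a ≫ τ) v := fun v => by
    rw [← Scheme.Hom.comp_apply, pullback.lift_fst, Category.comp_id]
  have := h.image m m.continuous.continuousOn
  convert this using 1
  ext w
  obtain ⟨v, rfl⟩ := hm w
  constructor
  · intro hw
    refine ⟨v, ?_, rfl⟩
    show pullback.fst f (a ≫ τ) v ∈ E
    rw [← hmf]
    exact hw
  · rintro ⟨v', hv', he⟩
    show pullback.fst f τ (m v) ∈ E
    rw [← he, hmf]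
    exact hv'

theorem surjective_spec_field (F : Type u) [Field F] {T : Scheme.{u}} (a : T ⟶ Spec (CommRingCat.of F))
    (t : T) : Surjective a :=
  ⟨fun s => ⟨t, Subsingleton.elim (α := PrimeSpectrum F) _ _⟩⟩

theorem hirr_of_GI (f : X ⟶ Y) (g : Y ⟶ X) (y : Y) (h : GI f g y)
    (K : Type u) [Field K] [Algebra (IsLocalRing.ResidueField (Y.presheaf.stalk y)) K] :
    IsIrreducible ((FBase.bcπ (f.fiberToSpecResidueField y) K ≫ f.fiberι y).base ⁻¹' connectedComponentIn (f.base ⁻¹' {y}) (g.base y)) := by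
  let b : Spec (CommRingCat.of K) ⟶ Spec (Y.residueField y) :=
    Spec.map (CommRingCat.ofHom (algebraMap (IsLocalRing.ResidueField (Y.presheaf.stalk y)) K))
  let τ : Spec (CommRingCat.of K) ⟶ Y := b ≫ Y.fromSpecResidueField y
  let a : Spec (CommRingCat.of (AlgebraicClosure K)) ⟶ Spec (CommRingCat.of K) :=
    Spec.map (CommRingCat.ofHom (algebraMap K (AlgebraicClosure K)))
  haveI : Surjective a := surjective_spec_field K a (spt _)
  have hτ : (a ≫ τ) (spt _) = y := by
    rw [Scheme.Hom.comp_apply, Scheme.Hom.comp_apply, Scheme.fromSpecResidueField_apply]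
  have hirr := isIrreducible_preimage_comp f a τ _ (h _ (a ≫ τ) hτ)
  let e : FBase.bc (f.fiberToSpecResidueField y) K ≅ pullback f τ :=
    pullbackLeftPullbackSndIso f (Y.fromSpecResidueField y) b
  have he : e.hom ≫ pullback.fst f τ = FBase.bcπ (f.fiberToSpecResidueField y) K ≫ f.fiberι y :=
    pullbackLeftPullbackSndIso_hom_fst f (Y.fromSpecResidueField y) b
  have := hirr.image e.inv e.inv.continuous.continuousOn
  convert this using 1
  ext v
  have hfv : f ((FBase.bcπ (f.fiberToSpecResidueField y) K ≫ f.fiberι y) v) = y := by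
    rw [Scheme.Hom.comp_apply]
    exact (f.range_fiberι y).le ⟨_, rfl⟩
  constructor
  · intro hv
    refine ⟨e.hom v, ?_, ?_⟩
    · rw [Set.mem_preimage, ← Scheme.Hom.comp_apply, he]
      exact (mem_sc_iff f g hfv).2 hv
    · rw [← Scheme.Hom.comp_apply, Iso.hom_inv_id]; rfl
  · rintro ⟨w, hw, rfl⟩
    refine (mem_sc_iff f g hfv).1 ?_
    rw [← he, Scheme.Hom.comp_apply, ← Scheme.Hom.comp_apply e.inv, Iso.inv_hom_id]
    exact hw

theorem isIrreducible_of_GI (f : X ⟶ Y) (g : Y ⟶ X) (y : Y) (h : GI f g y) :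
    IsIrreducible (connectedComponentIn (f.base ⁻¹' {y}) (g.base y)) := by
  have := (h _ (acPt y) (acPt_apply y)).image (pullback.fst f (acPt y)) (pullback.fst f (acPt y)).continuous.continuousOn
  convert this using 1
  ext x
  constructor
  · intro hx
    have hx' : f x = y := connectedComponentIn_subset (f.base ⁻¹' {y}) (g.base y) hx
    obtain ⟨v, hv, -⟩ := Scheme.Pullback.exists_preimage_pullback (f := f) (g := acPt y) x (spt _)
      (by rw [hx', acPt_apply])
    exact ⟨v, by rw [Set.mem_preimage, hv]; exact (mem_sc_iff f g hx').2 hx, hv⟩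
  · rintro ⟨v, hv, rfl⟩
    refine (mem_sc_iff f g ?_).1 hv
    rw [← Scheme.Hom.comp_apply, pullback.condition, Scheme.Hom.comp_apply,
      show pullback.snd f (acPt y) v = spt _ from Subsingleton.elim (α := PrimeSpectrum _) _ _, acPt_apply]

theorem GI_baseChange {X' Y' : Scheme.{u}} {f : X ⟶ Y} {g : Y ⟶ X} (hg : g ≫ f = 𝟙 Y) {f' : X' ⟶ Y'}
    {g' : Y' ⟶ X'} (hg' : g' ≫ f' = 𝟙 Y') {q : X' ⟶ X} {π : Y' ⟶ Y} (sq : IsPullback q f' f π)
    (hgq : g' ≫ q = π ≫ g) (y' : Y') : GI f' g' y' ↔ GI f g (π y') := by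
  have hE := S1324.result f g hg f' q π sq g' hg' hgq
  have key : ∀ (F : Type u) [Field F] [IsAlgClosed F] (τ' : Spec (CommRingCat.of F) ⟶ Y'),
      IsIrreducible ((pullback.fst f' τ') ⁻¹' MoreMor.sectionComponents f' g') ↔
        IsIrreducible ((pullback.fst f (τ' ≫ π)) ⁻¹' MoreMor.sectionComponents f g) := by
    intro F _ _ τ'
    let e := ((IsPullback.of_hasPullback f' τ').paste_horiz sq).isoPullback
    have he : e.hom ≫ pullback.fst f (τ' ≫ π) = pullback.fst f' τ' ≫ q :=
      ((IsPullback.of_hasPullback f' τ').paste_horiz sq).isoPullback_hom_fst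
    have hset : (pullback.fst f' τ') ⁻¹' MoreMor.sectionComponents f' g' =
        e.hom ⁻¹' ((pullback.fst f (τ' ≫ π)) ⁻¹' MoreMor.sectionComponents f g) := by
      rw [hE, ← Set.preimage_comp, ← Set.preimage_comp]
      ext v
      simp only [Set.mem_preimage, Function.comp_apply]
      rw [← Scheme.Hom.comp_apply, ← Scheme.Hom.comp_apply, he]
    rw [hset]
    constructor
    · intro h
      have := h.image e.hom e.hom.continuous.continuousOn
      rwa [Set.image_preimage_eq _ e.hom.surjective] at this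
    · intro h
      have := h.image e.inv e.inv.continuous.continuousOn
      convert this using 1
      ext v
      constructor
      · exact fun hv => ⟨e.hom v, hv, by rw [← Scheme.Hom.comp_apply, Iso.hom_inv_id]; rfl⟩
      · rintro ⟨w, hw, rfl⟩
        rw [Set.mem_preimage, ← Scheme.Hom.comp_apply, Iso.inv_hom_id]
        exact hw
  constructor
  · intro h F _ _ τ hτ
    obtain ⟨w, -, hw⟩ := Scheme.Pullback.exists_preimage_pullback (f := τ) (g := π) (spt F) y' hτ
    let a : Spec (CommRingCat.of (AlgebraicClosure ((pullback τ π).residueField w))) ⟶ pullback τ π := acPt w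
    haveI : Surjective (a ≫ pullback.fst τ π) := surjective_spec_field F _ (spt _)
    refine isIrreducible_preimage_comp f (a ≫ pullback.fst τ π) τ _ ?_
    have := (key _ (a ≫ pullback.snd τ π)).1 (h _ _ (by rw [Scheme.Hom.comp_apply, acPt_apply, hw]))
    rw [Category.assoc, ← pullback.condition, ← Category.assoc] at this
    exact this
  · intro h F _ _ τ' hτ'
    exact (key F τ').2 (h F _ (by rw [Scheme.Hom.comp_apply, hτ']))

theorem GD_baseChange {X' Y' : Scheme.{u}} {f : X ⟶ Y} [LocallyOfFiniteType f] {g : Y ⟶ X} (hg : g ≫ f = 𝟙 Y)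
    {f' : X' ⟶ Y'} [LocallyOfFiniteType f'] {g' : Y' ⟶ X'} (hg' : g' ≫ f' = 𝟙 Y') {q : X' ⟶ X} {π : Y' ⟶ Y}
    (sq : IsPullback q f' f π) (hgq : g' ≫ q = π ≫ g) (d : WithBot ℕ∞) (y' : Y') :
    GD f' g' d y' ↔ GD f g d (π y') := by
  have h : FlatMor.fibreDimAt f' (g' y') = FlatMor.fibreDimAt f (g (π y')) := by
    rw [FibDim.fibreDimAt_baseChange sq, ← Scheme.Hom.comp_apply, hgq, Scheme.Hom.comp_apply]
  rw [GD, GD, GI_baseChange hg hg' sq hgq, h]

theorem GI_iff_card (f : X ⟶ Y) (g : Y ⟶ X) (U : X.Opens) (y : Y)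
    (hU : ∀ x, f x = y → (x ∈ U ↔ x ∈ MoreMor.sectionComponents f g)) :
    GI f g y ↔ MoreMor.nGeomIrredComp (U.ι ≫ f) y = 1 := by
  have key : ∀ (F : Type u) [Field F] [IsAlgClosed F] (τ : Spec (CommRingCat.of F) ⟶ Y), τ (spt F) = y →
      (IsIrreducible ((pullback.fst f τ) ⁻¹' MoreMor.sectionComponents f g) ↔
        MoreMor.nGeomIrredComp (U.ι ≫ f) y = 1) := by
    intro F _ _ τ hτ
    rw [← hτ, H1Spread.nGeomIrredComp_eq_card (U.ι ≫ f) τ]
    let m : pullback (U.ι ≫ f) τ ⟶ pullback f τ := pullback.map _ _ _ _ U.ι (𝟙 _) (𝟙 _) (by simp) (by simp)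
    haveI : IsOpenImmersion m := Scheme.pullback_map_isOpenImmersion _ _ _ _ _ _ _ _ _
    have hr : (pullback.fst f τ) ⁻¹' MoreMor.sectionComponents f g = Set.range m := by
      rw [Scheme.Pullback.range_map, Scheme.Opens.range_ι]
      ext v
      have hy : f (pullback.fst f τ v) = y := by
        rw [← Scheme.Hom.comp_apply, pullback.condition, Scheme.Hom.comp_apply,
          show pullback.snd f τ v = spt F from Subsingleton.elim (α := PrimeSpectrum F) _ _, hτ]
      simp only [Set.mem_preimage, Set.mem_inter_iff, Scheme.Hom.id_base, TopCat.coe_id, Set.range_id, Set.mem_univ,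
        and_true, SetLike.mem_coe]
      exact (hU _ hy).symm
    rw [hr]
    constructor
    · intro h
      rw [Set.encard_eq_one]
      refine ⟨Set.univ, Set.eq_singleton_iff_unique_mem.2 ?_⟩
      have hirr : IsIrreducible (Set.univ : Set ↥(pullback (U.ι ≫ f) τ)) := by
        refine ⟨?_, ?_⟩
        · obtain ⟨_, w, rfl⟩ := h.1
          exact ⟨w, trivial⟩
        · intro A B hA hB hAne hBne
          obtain ⟨a, -, ha⟩ := hAne
          obtain ⟨b, -, hb⟩ := hBne
          obtain ⟨_, -, ⟨c, hc, rfl⟩, c', hc', he⟩ := h.2 (m '' A) (m '' B) (m.isOpenEmbedding.isOpenMap A hA)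
            (m.isOpenEmbedding.isOpenMap B hB) ⟨m a, ⟨a, rfl⟩, a, ha, rfl⟩ ⟨m b, ⟨b, rfl⟩, b, hb, rfl⟩
          exact ⟨c, trivial, hc, m.isOpenEmbedding.injective he ▸ hc'⟩
      exact ⟨⟨hirr, fun T _ _ => Set.subset_univ T⟩,
        fun T hT => Set.Subset.antisymm (Set.subset_univ T) (hT.2 hirr (Set.subset_univ T))⟩
    · intro h
      obtain ⟨T, hT⟩ := Set.encard_eq_one.1 h
      have hTu : T = Set.univ := by
        refine Set.eq_univ_of_forall fun v => ?_
        have hv := irreducibleComponent_mem_irreducibleComponents v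
        rw [hT, Set.mem_singleton_iff] at hv
        exact hv ▸ mem_irreducibleComponent
      have hirr : IsIrreducible T := (hT.ge rfl : T ∈ irreducibleComponents _).1
      rw [hTu] at hirr
      have := hirr.image m m.continuous.continuousOn
      rwa [Set.image_univ] at this
  exact ⟨fun h => (key _ (acPt y) (acPt_apply y)).1 (h _ _ (acPt_apply y)),
    fun h F _ _ τ hτ => (key F τ hτ).2 h⟩

theorem exists_open_GD [IsNoetherian Y] [IrreducibleSpace ↑Y] [IsReduced Y] (f : X ⟶ Y) [LocallyOfFiniteType f]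
    [QuasiCompact f] (g : Y ⟶ X) (hg : g ≫ f = 𝟙 Y) (d : WithBot ℕ∞) :
    ∃ W : Y.Opens, genericPoint ↑Y ∈ W ∧ ∀ y ∈ W, (GD f g d y ↔ GD f g d (genericPoint ↑Y)) := by
  set η := genericPoint ↑Y
  haveI : CompactSpace X := QuasiCompact.compactSpace_of_compactSpace f
  haveI : IsLocallyNoetherian X := LocallyOfFiniteType.isLocallyNoetherian f
  haveI : IsNoetherian X := {}
  obtain ⟨W₁, hη₁, hclo⟩ := H1Spread.exists_open_clopen f g hg
  let U : X.Opens := ⟨Subtype.val '' (Subtype.val ⁻¹' MoreMor.sectionComponents f g : Set ↑(f ⁻¹' (W₁ : Set Y))),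
    (W₁.isOpen.preimage f.continuous).isOpenMap_subtype_val _ hclo.isOpen⟩
  have hU : ∀ y ∈ W₁, ∀ x, f x = y → (x ∈ U ↔ x ∈ MoreMor.sectionComponents f g) := fun y hy x hx =>
    ⟨by rintro ⟨w, hw, rfl⟩; exact hw, fun h => ⟨⟨x, show f x ∈ W₁ from hx ▸ hy⟩, h, rfl⟩⟩
  haveI : CompactSpace ↥U.toScheme := isCompact_iff_compactSpace.1 (NoetherianSpace.isCompact (U : Set X))
  haveI : QuasiCompact (U.ι ≫ f) := quasiCompact_of_compactSpace _
  obtain ⟨W₂, hη₂, hcard⟩ := H1Spread.exists_open_const_irred (U.ι ≫ f)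
  have hGI : ∀ y ∈ W₁ ⊓ W₂, GI f g y ↔ GI f g η := fun y hy => by
    rw [GI_iff_card f g U y (hU y hy.1), GI_iff_card f g U η (hU η hη₁), hcard y hy.2]
  by_cases hG : GI f g η
  · have hdim : ∀ y ∈ W₁, GI f g y →
        FlatMor.fibreDimAt f (g y) = topologicalKrullDim ↥((U.ι ≫ f).fiber y) := by
      intro y hy hGy
      rw [← UnivOpen.dim_component f (UnivOpen.apply_section hg y) (isIrreducible_of_GI f g y hGy),
        ((U.ι ≫ f).fiberHomeo y).isHomeomorph.topologicalKrullDim_eq]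
      let φ : ↥((U.ι ≫ f) ⁻¹' {y}) → X := fun w => U.ι w.1
      have hφ : Topology.IsEmbedding φ := U.ι.isOpenEmbedding.isEmbedding.comp Topology.IsEmbedding.subtypeVal
      rw [hφ.toHomeomorph.isHomeomorph.topologicalKrullDim_eq]
      have hr : Set.range φ = connectedComponentIn (f.base ⁻¹' {y}) (g.base y) := by
        ext x
        constructor
        · rintro ⟨w, rfl⟩
          have hx : f (U.ι w.1) = y := (Scheme.Hom.comp_apply _ _ _).symm.trans w.2
          exact (mem_sc_iff f g hx).1 ((hU y hy _ hx).1 w.1.2)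
        · intro hx
          have hx' : f x = y := connectedComponentIn_subset (f.base ⁻¹' {y}) (g.base y) hx
          exact ⟨⟨⟨x, (hU y hy x hx').2 ((mem_sc_iff f g hx').2 hx)⟩, hx'⟩, rfl⟩
      rw [hr]
    obtain ⟨z, -, -, -, hzd⟩ := FibDim.exists_fibMax_generization f (g η)
    haveI : LocallyOfFiniteType (U.ι ≫ f) := inferInstance
    obtain ⟨W₃, hW₃, hW₃d⟩ := FlatMisc.DimNear.exists_open_dim_eq (U.ι ≫ f) (FibDim.rd f z)
      (by rw [← hdim η hη₁ hG, hzd]; rfl)
    have hη₃ : η ∈ W₃ := ((genericPoint_spec ↑Y).mem_open_set_iff W₃.isOpen).2 (by simpa using hW₃)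
    refine ⟨W₁ ⊓ W₂ ⊓ W₃, ⟨⟨hη₁, hη₂⟩, hη₃⟩, fun y hy => ?_⟩
    have hy' := (hGI y hy.1).2 hG
    rw [GD, GD, iff_true_intro hy', iff_true_intro hG, hdim y hy.1.1 hy', hdim η hη₁ hG,
      hW₃d y hy.2, hW₃d η hη₃]
  · exact ⟨W₁ ⊓ W₂, ⟨hη₁, hη₂⟩, fun y hy => iff_of_false (fun h => hG ((hGI y hy).1 h.1)) (fun h => hG h.1)⟩

theorem isConstructible_GD [IsNoetherian Y] (f : X ⟶ Y) [LocallyOfFiniteType f] [QuasiCompact f] (g : Y ⟶ X)
    (hg : g ≫ f = 𝟙 Y) (d : WithBot ℕ∞) : IsConstructible {y : Y | GD f g d y} :=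
  ConsPropLib.isConstructible_of_dichotomy _ fun T j _ _ _ => by
    let gT : T ⟶ pullback f j := pullback.lift (j ≫ g) (𝟙 T)
      (by rw [Category.assoc, hg, Category.comp_id, Category.id_comp])
    have hgT : gT ≫ pullback.snd f j = 𝟙 T := pullback.lift_snd _ _ _
    have hbc : ∀ t, GD (pullback.snd f j) gT d t ↔ GD f g d (j t) := fun t =>
      GD_baseChange hg hgT (IsPullback.of_hasPullback f j) (pullback.lift_fst _ _ _) d t
    obtain ⟨W, hη, hW⟩ := exists_open_GD (pullback.snd f j) gT hgT d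
    by_cases h : GD f g d (j (genericPoint ↑T))
    · exact Or.inl ⟨_, mem_interior.2 ⟨W, fun t ht =>
        ((hbc t).1 ((hW t ht).2 ((hbc _).2 h))), W.isOpen, hη⟩⟩
    · exact Or.inr ⟨_, mem_interior.2 ⟨W, fun t ht ht' =>
        h ((hbc _).1 ((hW t ht).1 ((hbc t).2 ht'))), W.isOpen, hη⟩⟩

/-- A Noetherian model with geometrically irreducible section components of dimension `d`. -/
theorem exists_good_model [IsAffine Y] (f : X ⟶ Y) [LocallyOfFinitePresentation f] [QuasiCompact f]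
    [QuasiSeparated f] (g : Y ⟶ X) (hg : g ≫ f = 𝟙 Y) (d : WithBot ℕ∞) (hd : ∀ y, GD f g d y) :
    ∃ (S₀ X₀ : Scheme.{u}) (π : Y ⟶ S₀) (f₀ : X₀ ⟶ S₀) (g₀ : S₀ ⟶ X₀) (q : X ⟶ X₀),
      IsNoetherian S₀ ∧ LocallyOfFiniteType f₀ ∧ QuasiCompact f₀ ∧
        IsPullback q f f₀ π ∧ g₀ ≫ f₀ = 𝟙 S₀ ∧ g ≫ q = π ≫ g₀ ∧ ∀ z, GD f₀ g₀ d z := by
  obtain ⟨I, _, _, D, c, hc, e, hA, hN⟩ := ConsPropLib.exists_noetherian_limit Y
  haveI := hA
  haveI : ∀ {i j : I} (φ : i ⟶ j), IsAffineHom (D.map φ) := fun φ => isAffineHom_of_isAffine _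
  haveI : ∀ (i j : I) (φ : i ⟶ j), IsAffineHom (D.map φ) := fun i j φ => isAffineHom_of_isAffine _
  let h : X ⟶ c.pt := f ≫ e.inv
  obtain ⟨i, X₁, u₁, g₁, hX⟩ := ConsPropLib.hasModel hc h
  haveI := hX.lfp; haveI := hX.qc; haveI := hX.compactSpace; haveI := hX.quasiSeparatedSpace
  let s' : c.pt ⟶ X := e.hom ≫ g
  have hs' : s' ≫ h = 𝟙 c.pt := by
    show (e.hom ≫ g) ≫ f ≫ e.inv = _
    rw [Category.assoc, reassoc_of% hg, Iso.hom_inv_id]
  obtain ⟨l, χ, fl, sY, sX, hfl', hA1, hA2, hB1, hB2, hsq⟩ :=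
    S9218.result D c hc i (𝟙 (D.obj i)) u₁ (c.π.app i) (𝟙 c.pt)
      (IsPullback.id_horiz (c.π.app i) |>.flip) g₁ h hX.sq s' hs'
  have mX' := hX.pushed χ
  haveI := mX'.lfp; haveI := mX'.qc
  have eX : sX = hX.push χ :=
    pullback.hom_ext (hB1.trans (hX.push_fst χ).symm) (hB2.trans (hX.push_snd χ).symm)
  subst eX
  let ι := pullback.snd (𝟙 (D.obj i)) (D.map χ)
  let fl' := pullback.snd u₁ (D.map χ)
  let gl : D.obj l ⟶ pullback u₁ (D.map χ) := inv ι ≫ fl
  have hgl : gl ≫ fl' = 𝟙 _ := by rw [Category.assoc, hfl', IsIso.inv_hom_id]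
  have hsl : s' ≫ hX.push χ = c.π.app l ≫ gl := by
    have h3 : sY ≫ ι = c.π.app l := hA2.trans (Category.id_comp _)
    have h4 : sY = c.π.app l ≫ inv ι := by rw [← h3, Category.assoc, IsIso.hom_inv_id, Category.comp_id]
    rw [← hsq, h4, Category.assoc]
  haveI := hN l
  haveI : LocallyOfFiniteType fl' := inferInstance
  haveI : LocallyOfFiniteType h := inferInstance
  have hG : ∀ p : c.pt, GD fl' gl d (c.π.app l p) := fun p => by
    have h1 : GD h s' d p := by
      have sqe : IsPullback (𝟙 X) h f e.hom := IsPullback.of_horiz_isIso ⟨by simp [h]⟩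
      exact (GD_baseChange hg hs' sqe (by simp [s']) d p).2 (hd _)
    exact (GD_baseChange hgl hs' mX'.sq hsl d p).1 h1
  obtain ⟨m, ψ, hψ⟩ := MorLib.LimPro.exists_subset hc l (A := Set.univ) (B := {y | GD fl' gl d y})
    MorLib.LimCons.pro_univ (EGA41Lib.lc_iff.1 (isConstructible_GD fl' gl hgl d).isLocallyConstructible).1
    (fun p _ => hG p)
  let fm := pullback.snd fl' (D.map ψ)
  let gm : D.obj m ⟶ pullback fl' (D.map ψ) :=
    pullback.lift (D.map ψ ≫ gl) (𝟙 _) (by rw [Category.assoc, hgl, Category.comp_id, Category.id_comp])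
  have mm := mX'.pushed ψ
  haveI := mm.qc; haveI := mm.lfp
  haveI : LocallyOfFiniteType fm := inferInstance
  refine ⟨D.obj m, _, e.inv ≫ c.π.app m, fm, gm, mX'.push ψ, hN m, inferInstance, inferInstance, ?_,
    pullback.lift_snd _ _ _, ?_, fun z => ?_⟩
  · exact mm.sq.of_iso (Iso.refl _) (Iso.refl _) e (Iso.refl _) (by simp) (by simp [h]) (by simp [fm, fl']) (by simp)
  · have h5 : g = e.inv ≫ s' := by simp [s']
    refine pullback.hom_ext ?_ ?_
    · rw [Category.assoc, mX'.push_fst, h5, Category.assoc, hsl, Category.assoc, Category.assoc, pullback.lift_fst,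
        c.w_assoc]
    · rw [Category.assoc, mX'.push_snd, h5, Category.assoc, reassoc_of% hs', Category.assoc, Category.assoc,
        pullback.lift_snd, Category.comp_id]
  · exact (GD_baseChange hgl (pullback.lift_snd _ _ _) (IsPullback.of_hasPullback fl' (D.map ψ))
      (pullback.lift_fst _ _ _) d z).2 (hψ (Set.mem_univ z))

end Groth.Agent.H1W
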