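import Groth.Agent.H1W.Open
import Groth.Agent.H1W.Good
import Groth.Agent.S5926
import Groth.Agent.Triage.CMBC
import Groth.Agent.FibFlat.Core
import Groth.Agent.FlatPtDesc.Basic
import Mathlib

/-!
# EGA IV 15.6.6 and 15.6.8 for morphisms of finite presentation
-/

universe u

set_option backward.isDefEq.respectTransparency false
set_option backward.isDefEq.respectTransparency.types false
set_option maxHeartbeats 1000000
set_option linter.style.haveILetI false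

open AlgebraicGeometry CategoryTheory CategoryTheory.Limits TopologicalSpace IsLocalRing

noncomputable section

namespace Groth.Agent.H1W

variable {X Y : Scheme.{u}}

theorem dim_eq_fibreDimAt (f : X ⟶ Y) [LocallyOfFiniteType f] (g : Y ⟶ X) (hg : g ≫ f = 𝟙 Y) (y : Y) (h : GI f g y) :
    topologicalKrullDim ↥(connectedComponentIn (f.base ⁻¹' {y}) (g.base y)) = FlatMor.fibreDimAt f (g y) :=
  UnivOpen.dim_component f (UnivOpen.apply_section hg y) (isIrreducible_of_GI f g y h)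

theorem isGeomReducedAt_baseChange_iff {X' Y' : Scheme.{u}} (f : X ⟶ Y) (π : Y' ⟶ Y) (f' : X' ⟶ Y') (q : X' ⟶ X)
    (sq : IsPullback q f' f π) (z : X') :
    FBase.IsGeomReducedAt (f'.fiberToSpecResidueField (f' z)) (f'.asFiber z) ↔
      FBase.IsGeomReducedAt (f.fiberToSpecResidueField (f (q z))) (f.asFiber (q z)) :=
  ⟨H1Sect.isGeomReducedAt_fibre_descend sq z, fun h => (GeomRedFlat5.E_iff_of_isPullback sq z).2 h⟩

/-- The setting over an affine open of the base on which the dimension is constant. -/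
theorem exists_local_model (f : X ⟶ Y) [LocallyOfFinitePresentation f] [QuasiCompact f] [QuasiSeparated f]
    (g : Y ⟶ X) (hg : g ≫ f = 𝟙 Y)
    (hgi : ∀ (y : Y) (K : Type u) [Field K] [Algebra (IsLocalRing.ResidueField (Y.presheaf.stalk y)) K],
      IsIrreducible ((FBase.bcπ (f.fiberToSpecResidueField y) K ≫ f.fiberι y).base ⁻¹' (connectedComponentIn (f.base ⁻¹' {y}) (g.base y))))
    (y₀ : Y) (hconst : ∃ V ∈ nhds y₀, ∀ z ∈ V, topologicalKrullDim ↥(connectedComponentIn (f.base ⁻¹' {z}) (g.base z)) = topologicalKrullDim ↥(connectedComponentIn (f.base ⁻¹' {y₀}) (g.base y₀))) :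
    ∃ V : Y.Opens, y₀ ∈ V ∧
      (∀ z ∈ V, topologicalKrullDim ↥(connectedComponentIn (f.base ⁻¹' {z}) (g.base z)) = topologicalKrullDim ↥(connectedComponentIn (f.base ⁻¹' {y₀}) (g.base y₀))) ∧
      ∃ (S₀ X₀ : Scheme.{u}) (π : V.toScheme ⟶ S₀) (f₀ : X₀ ⟶ S₀) (g₀ : S₀ ⟶ X₀) (q : pullback f V.ι ⟶ X₀),
        IsNoetherian S₀ ∧ LocallyOfFiniteType f₀ ∧ QuasiCompact f₀ ∧
        IsPullback q (pullback.snd f V.ι) f₀ π ∧ g₀ ≫ f₀ = 𝟙 S₀ ∧
        pullback.fst f V.ι ⁻¹' MoreMor.sectionComponents f g = q ⁻¹' MoreMor.sectionComponents f₀ g₀ ∧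
        (∀ z, GD f₀ g₀ (topologicalKrullDim ↥(connectedComponentIn (f.base ⁻¹' {y₀}) (g.base y₀))) z) := by
  obtain ⟨N, hN, hNc⟩ := hconst
  obtain ⟨V, hV, hyV, hVN⟩ := exists_isAffineOpen_mem_and_subset (U := (⟨interior N, isOpen_interior⟩ : Y.Opens))
    (x := y₀) (mem_interior_iff_mem_nhds.2 hN)
  have hVc : ∀ z ∈ V, topologicalKrullDim ↥(connectedComponentIn (f.base ⁻¹' {z}) (g.base z)) =
      topologicalKrullDim ↥(connectedComponentIn (f.base ⁻¹' {y₀}) (g.base y₀)) :=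
    fun z hz => hNc z (interior_subset (hVN hz))
  haveI : IsAffine V.toScheme := hV
  let gV : V.toScheme ⟶ pullback f V.ι :=
    pullback.lift (V.ι ≫ g) (𝟙 _) (by rw [Category.assoc, hg, Category.comp_id, Category.id_comp])
  have hgV : gV ≫ pullback.snd f V.ι = 𝟙 _ := pullback.lift_snd _ _ _
  have hGD : ∀ v, GD (pullback.snd f V.ι) gV
      (topologicalKrullDim ↥(connectedComponentIn (f.base ⁻¹' {y₀}) (g.base y₀))) v := fun v => by
    rw [GD_baseChange hg hgV (IsPullback.of_hasPullback f V.ι) (pullback.lift_fst _ _ _)]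
    refine ⟨GI_of_hirr f g _ (hgi _), ?_⟩
    rw [← dim_eq_fibreDimAt f g hg _ (GI_of_hirr f g _ (hgi _))]
    exact hVc _ v.2
  obtain ⟨S₀, X₀, π, f₀, g₀, q, hS₀, hl, hqc, sq, hg₀, hgq, hall⟩ :=
    exists_good_model (pullback.snd f V.ι) gV hgV _ hGD
  refine ⟨V, hyV, hVc, S₀, X₀, π, f₀, g₀, q, hS₀, hl, hqc, sq, hg₀, ?_, hall⟩
  rw [← S1324.result f g hg _ _ _ (IsPullback.of_hasPullback f V.ι) gV hgV (pullback.lift_fst _ _ _),
    ← S1324.result f₀ g₀ hg₀ _ _ _ sq gV hgV hgq]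

theorem flat_of_dim_const [IsReduced Y] (f : X ⟶ Y) [LocallyOfFinitePresentation f] [QuasiCompact f]
    [QuasiSeparated f] (g : Y ⟶ X) (hg : g ≫ f = 𝟙 Y)
    (hgi : ∀ (y : Y) (K : Type u) [Field K] [Algebra (IsLocalRing.ResidueField (Y.presheaf.stalk y)) K],
      IsIrreducible ((FBase.bcπ (f.fiberToSpecResidueField y) K ≫ f.fiberι y).base ⁻¹' (connectedComponentIn (f.base ⁻¹' {y}) (g.base y))))
    (x₀ : X) (hx₀ : x₀ ∈ MoreMor.sectionComponents f g)
    (hconst : ∃ V ∈ nhds (f x₀), ∀ z ∈ V, topologicalKrullDim ↥(connectedComponentIn (f.base ⁻¹' {z}) (g.base z)) = topologicalKrullDim ↥(connectedComponentIn (f.base ⁻¹' {f x₀}) (g.base (f x₀))))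
    (hred : FBase.IsGeomReducedAt (f.fiberToSpecResidueField (f x₀)) (f.asFiber x₀)) :
    (f.stalkMap x₀).hom.Flat := by
  obtain ⟨V, hyV, -, S₀, X₀, π, f₀, g₀, q, hS₀, hl, hqc, sq, hg₀, hsc, hall⟩ :=
    exists_local_model f g hg hgi (f x₀) hconst
  haveI := hS₀; haveI := hl; haveI := hqc
  haveI : IsReduced V.toScheme := inferInstance
  obtain ⟨a, ha⟩ : x₀ ∈ Set.range (pullback.fst f V.ι) := by
    rw [Scheme.Pullback.range_fst, Scheme.Opens.range_ι]; exact hyV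
  subst ha
  let I : S₀.IdealSheafData := Scheme.IdealSheafData.vanishingIdeal ⊤
  haveI : IsReduced I.subscheme := inferInstanceAs (IsReduced (Scheme.IdealSheafData.vanishingIdeal ⊤).subscheme)
  let i := I.subschemeι
  haveI : Surjective i := ⟨by
    rw [← Set.range_eq_univ]
    show Set.range I.subschemeι = _
    rw [Scheme.IdealSheafData.range_subschemeι, Scheme.IdealSheafData.coe_support_vanishingIdeal]
    simp⟩
  haveI : IsLocallyNoetherian I.subscheme := LocallyOfFiniteType.isLocallyNoetherian i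
  haveI : IsIso (pullback.fst π i) := isIso_of_isClosedImmersion_of_surjective _
  let π₁ : V.toScheme ⟶ I.subscheme := inv (pullback.fst π i) ≫ pullback.snd π i
  have hπ₁ : π₁ ≫ i = π := by
    rw [Category.assoc, ← pullback.condition, IsIso.inv_hom_id_assoc]
  let f₁ := pullback.snd f₀ i
  let g₁ : I.subscheme ⟶ pullback f₀ i :=
    pullback.lift (i ≫ g₀) (𝟙 _) (by rw [Category.assoc, hg₀, Category.comp_id, Category.id_comp])
  have hg₁ : g₁ ≫ f₁ = 𝟙 _ := pullback.lift_snd _ _ _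
  let q₁ : pullback f V.ι ⟶ pullback f₀ i :=
    pullback.lift q (pullback.snd f V.ι ≫ π₁) (by rw [Category.assoc, hπ₁]; exact sq.w)
  have hq₁ : q₁ ≫ pullback.fst f₀ i = q := pullback.lift_fst _ _ _
  have sq₁ : IsPullback q₁ (pullback.snd f V.ι) f₁ π₁ :=
    IsPullback.of_right (by rw [hq₁, hπ₁]; exact sq) (pullback.lift_snd _ _ _) (IsPullback.of_hasPullback f₀ i)
  haveI : LocallyOfFiniteType f₁ := inferInstanceAs (LocallyOfFiniteType (pullback.snd f₀ i))
  have hGD₁ : ∀ z, GD f₁ g₁ _ z := fun z =>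
    (GD_baseChange hg₀ hg₁ (IsPullback.of_hasPullback f₀ i) (pullback.lift_fst _ _ _) _ z).2 (hall _)
  refine FlatPtDesc.flatAt_fst f V.ι a (Flat.stalkMap _ _) ?_
  refine Triage.CMBC.flat_stalk_of_isPullback sq₁ a ?_
  refine S5926.result f₁ g₁ hg₁ (fun y K _ _ => hirr_of_GI f₁ g₁ y (hGD₁ y).1 K) (q₁ a) ?_
    ⟨Set.univ, Filter.univ_mem, fun z _ => ?_⟩ ?_
  · rw [S1324.result f₀ g₀ hg₀ f₁ _ _ (IsPullback.of_hasPullback f₀ i) g₁ hg₁ (pullback.lift_fst _ _ _),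
      Set.mem_preimage, ← Scheme.Hom.comp_apply, hq₁, ← Set.mem_preimage, ← hsc]
    exact hx₀
  · rw [dim_eq_fibreDimAt f₁ g₁ hg₁ _ (hGD₁ _).1, dim_eq_fibreDimAt f₁ g₁ hg₁ _ (hGD₁ _).1, (hGD₁ _).2, (hGD₁ _).2]
  · exact (isGeomReducedAt_baseChange_iff f₁ π₁ _ q₁ sq₁ a).1
      ((isGeomReducedAt_baseChange_iff f V.ι _ _ (IsPullback.of_hasPullback f V.ι) a).2 hred)

theorem isOpen_locus_fp (f : X ⟶ Y) [LocallyOfFinitePresentation f] [QuasiCompact f] [QuasiSeparated f]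
    (g : Y ⟶ X) (hg : g ≫ f = 𝟙 Y)
    (hgi : ∀ (y : Y) (K : Type u) [Field K] [Algebra (IsLocalRing.ResidueField (Y.presheaf.stalk y)) K],
      IsIrreducible ((FBase.bcπ (f.fiberToSpecResidueField y) K ≫ f.fiberι y).base ⁻¹' (connectedComponentIn (f.base ⁻¹' {y}) (g.base y)))) :
    IsOpen {x : X | x ∈ MoreMor.sectionComponents f g ∧ (∃ V ∈ nhds (f.base x), ∀ z ∈ V, topologicalKrullDim ↥(connectedComponentIn (f.base ⁻¹' {z}) (g.base z)) = topologicalKrullDim ↥(connectedComponentIn (f.base ⁻¹' {(f.base x)}) (g.base (f.base x)))) ∧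
      FBase.IsGeomReducedAt (f.fiberToSpecResidueField (f.base x)) (f.asFiber x)} := by
  rw [isOpen_iff_mem_nhds]
  rintro x ⟨hx, hconst, hred⟩
  obtain ⟨V, hyV, hVc, S₀, X₀, π, f₀, g₀, q, hS₀, hl, hqc, sq, hg₀, hsc, hall⟩ :=
    exists_local_model f g hg hgi (f x) hconst
  haveI := hS₀; haveI := hl
  let p := pullback.fst f V.ι
  obtain ⟨a, rfl⟩ : x ∈ Set.range p := by
    rw [Scheme.Pullback.range_fst, Scheme.Opens.range_ι]; exact hyV
  have hW := isOpen_locus f₀ g₀ hg₀ (fun y K _ _ => hirr_of_GI f₀ g₀ y (hall y).1 K)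
  have hmem : ∀ z, p z ∈ MoreMor.sectionComponents f g ↔ q z ∈ MoreMor.sectionComponents f₀ g₀ :=
    fun z => Set.ext_iff.1 hsc z
  have hred' : ∀ z, FBase.IsGeomReducedAt (f.fiberToSpecResidueField (f (p z))) (f.asFiber (p z)) ↔
      FBase.IsGeomReducedAt (f₀.fiberToSpecResidueField (f₀ (q z))) (f₀.asFiber (q z)) := fun z =>
    (isGeomReducedAt_baseChange_iff f V.ι _ _ (IsPullback.of_hasPullback f V.ι) z).symm.trans
      (isGeomReducedAt_baseChange_iff f₀ π _ q sq z)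
  have ha : q a ∈ {x : X₀ | x ∈ MoreMor.sectionComponents f₀ g₀ ∧ (∃ V ∈ nhds (f₀.base x), ∀ z ∈ V, topologicalKrullDim ↥(connectedComponentIn (f₀.base ⁻¹' {z}) (g₀.base z)) = topologicalKrullDim ↥(connectedComponentIn (f₀.base ⁻¹' {(f₀.base x)}) (g₀.base (f₀.base x)))) ∧
      FBase.IsGeomReducedAt (f₀.fiberToSpecResidueField (f₀.base x)) (f₀.asFiber x)} := by
    refine ⟨(hmem a).1 hx, ⟨Set.univ, Filter.univ_mem, fun z _ => ?_⟩, (hred' a).1 hred⟩
    rw [dim_eq_fibreDimAt f₀ g₀ hg₀ _ (hall _).1, dim_eq_fibreDimAt f₀ g₀ hg₀ _ (hall _).1, (hall _).2, (hall _).2]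
  refine Filter.mem_of_superset (p.isOpenEmbedding.isOpenMap.image_mem_nhds
    (q.continuous.continuousAt.preimage_mem_nhds (hW.mem_nhds ha))) ?_
  rintro _ ⟨z, ⟨hz₁, -, hz₃⟩, rfl⟩
  have hzV : f (p z) ∈ V := by
    rw [← Scheme.Hom.comp_apply, pullback.condition, Scheme.Hom.comp_apply]
    exact (pullback.snd f V.ι z).2
  exact ⟨(hmem z).2 hz₁, ⟨V, V.isOpen.mem_nhds hzV, fun w hw => (hVc w hw).trans (hVc _ hzV).symm⟩,
    (hred' z).2 hz₃⟩

end Groth.Agent.H1W
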