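import Groth.Agent.H1W.Dominate
import Groth.Agent.H1Sect.Nhd
import Groth.Agent.GeomRedFlat5.Open
import Groth.Agent.UnivOpen.SectionConst
import Mathlib

/-!
# Openness around geometrically reduced points of irreducible section components (EGA IV 15.6.8)
-/

universe u

set_option backward.isDefEq.respectTransparency false
set_option backward.isDefEq.respectTransparency.types false
set_option maxHeartbeats 1000000

open AlgebraicGeometry CategoryTheory CategoryTheory.Limits TopologicalSpace IsLocalRing

noncomputable section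

namespace Groth.Agent.H1W

variable {X Y : Scheme.{u}}

theorem mem_component_of_specializes (f : X ⟶ Y) {y : Y} {a z x : X}
    (hx : x ∈ connectedComponentIn (f.base ⁻¹' {y}) a) (hfz : f z = y) (hzx : z ⤳ x) :
    z ∈ connectedComponentIn (f.base ⁻¹' {y}) a := by
  have hfx : f x = y := connectedComponentIn_subset (f.base ⁻¹' {y}) a hx
  rw [connectedComponentIn_eq hx]
  refine IsPreconnected.subset_connectedComponentIn (s := closure {z} ∩ f.base ⁻¹' {y}) ?_ ⟨hzx.mem_closure, hfx⟩
    Set.inter_subset_right ⟨subset_closure rfl, hfz⟩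
  exact isPreconnected_singleton.subset_closure (Set.singleton_subset_iff.mpr ⟨subset_closure rfl, hfz⟩)
    Set.inter_subset_left

/-- Generizations of a geometrically reduced point of a section component stay in section components
when the dimension does not drop. -/
theorem mem_sectionComponents_of_specializes' [IsLocallyNoetherian Y] (f : X ⟶ Y) [LocallyOfFiniteType f]
    (g : Y ⟶ X) (hg : g ≫ f = 𝟙 Y)
    (hgi : ∀ (y : Y) (K : Type u) [Field K] [Algebra (IsLocalRing.ResidueField (Y.presheaf.stalk y)) K],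
      IsIrreducible ((FBase.bcπ (f.fiberToSpecResidueField y) K ≫ f.fiberι y).base ⁻¹' (connectedComponentIn (f.base ⁻¹' {y}) (g.base y))))
    (y : Y) (hd : ∀ y', y' ⤳ y → topologicalKrullDim ↥(connectedComponentIn (f.base ⁻¹' {y}) (g.base y)) ≤
      topologicalKrullDim ↥(connectedComponentIn (f.base ⁻¹' {y'}) (g.base y')))
    {x x' : X} (hx : x ∈ connectedComponentIn (f.base ⁻¹' {y}) (g.base y))
    (hred : FBase.IsGeomReducedAt (f.fiberToSpecResidueField (f x)) (f.asFiber x)) (hsp : x' ⤳ x) :
    x' ∈ MoreMor.sectionComponents f g := by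
  have hfy : f x = y := connectedComponentIn_subset (f.base ⁻¹' {y}) (g.base y) hx
  by_cases hxy : f x' = y
  · exact (H1Sect.mem_sectionComponents_iff_of_eq f g hxy).2 (mem_component_of_specializes f hx hxy hsp)
  have hne : x ≠ x' := by rintro rfl; exact hxy hfy
  haveI : IsLocallyNoetherian X := LocallyOfFiniteType.isLocallyNoetherian f
  obtain ⟨A, h, hA, hhc, hhg⟩ := Proj16.exists_dvr_path (p := 𝟙 X) (x := x') (y' := x) hsp hne
  let S := Spec (CommRingCat.of A)
  let τ : S ⟶ Y := h ≫ f
  let p := pullback.fst f τ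
  let q := pullback.snd f τ
  let c : S := closedPoint A
  let η : S := (⟨⊥, Ideal.isPrime_bot⟩ : PrimeSpectrum A)
  have hηc : η ⤳ c :=
    (PrimeSpectrum.le_iff_specializes (⟨⊥, Ideal.isPrime_bot⟩ : PrimeSpectrum A) (closedPoint A : PrimeSpectrum A)).1 bot_le
  have hηne : η ≠ c := fun h => IsDiscreteValuationRing.not_a_field A (congrArg PrimeSpectrum.asIdeal h).symm
  have hcases : ∀ t : S, t ≠ c → t = η := fun t ht => by
    refine PrimeSpectrum.ext ?_
    by_contra h
    exact ht (PrimeSpectrum.ext (IsLocalRing.eq_maximalIdeal ((t : PrimeSpectrum A).isPrime.isMaximal h)))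
  have hτc : τ c = y := by rw [Scheme.Hom.comp_apply, hhc, hfy]
  have hhη : h η = x' := by
    have h1 : Spec.map (CommRingCat.ofHom A.subtype) (closedPoint (X.residueField x')) = η := by
      refine PrimeSpectrum.ext ?_
      show Ideal.comap A.subtype (maximalIdeal (X.residueField x')) = ⊥
      rw [maximalIdeal_eq_bot]
      exact Ideal.comap_bot_of_injective _ Subtype.val_injective
    rw [← h1, ← Scheme.Hom.comp_apply, hhg, Category.comp_id]
    exact Scheme.fromSpecResidueField_apply x' _
  have hτη : τ η = f x' := by rw [Scheme.Hom.comp_apply, hhη]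
  let σ : S ⟶ pullback f τ := pullback.lift h (𝟙 _) (by rw [Category.id_comp])
  have hpσ : ∀ t, p (σ t) = h t := fun t => by rw [← Scheme.Hom.comp_apply, pullback.lift_fst]
  have hqσ : ∀ t, q (σ t) = t := fun t => by rw [← Scheme.Hom.comp_apply, pullback.lift_snd]; rfl
  obtain ⟨z, hqz, hpz, hzv⟩ := exists_dominating' f hg hgi τ hηc (by rw [hτc]; exact hd _ ((hηc.map τ.continuous).trans (specializes_of_eq hτc)))
  obtain ⟨w, hw⟩ : σ c ∈ Set.range (q.fiberι c) := by
    rw [Scheme.Hom.range_fiberι]; exact hqσ c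
  have hpw : p (q.fiberι c w) = x := by rw [hw, hpσ, hhc]
  have hzw : z ⤳ q.fiberι c w := hzv _ (by rw [hw]; exact hqσ c) (by
    show p (q.fiberι c w) ∈ _
    rw [hτc, hpw]
    exact hx)
  obtain ⟨a, ha, har⟩ : ∃ a : ↥(f.fiber y), f.fiberι y a = x ∧
      FBase.IsGeomReducedAt (f.fiberToSpecResidueField y) a := by
    subst hfy; exact ⟨_, f.fiberι_asFiber x, hred⟩
  have hwred := UnivOpen.isReduced_fibre_baseChange f τ hτc a har w (by
    show p (q.fiberι c w) = _
    rw [hpw, ha])
  have hqopen : ∀ z', z' ⤳ q.fiberι c w → q z' = q (q.fiberι c w) → FibDim.FibMax q z' →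
      EGA43.IsOpenAt q.base z' := by
    intro z' hz' hqz' _
    have hfz' : f (p z') = y := by
      rw [← Scheme.Hom.comp_apply, pullback.condition, Scheme.Hom.comp_apply, hqz', hw, hqσ, hτc]
    exact UnivOpen.isUnivOpenAt_sectionComponent f hg hgi hd
      (mem_component_of_specializes f hx hfz' (hpw ▸ hz'.map p.continuous)) _ τ z' rfl
  obtain ⟨T, hT, hzT, hσT⟩ := FlatDvr.exists_preconnected_generic q rfl w hqopen hwred hzw
    (show σ η ⤳ q.fiberι c w by rw [hw]; exact hηc.map σ.continuous)
    (fun h => hηne (hqz.symm.trans h)) (fun h => hηne ((hqσ η).symm.trans h))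
  have hTη : ∀ t ∈ T, f (p t) = f x' := fun t ht => by
    rw [← Scheme.Hom.comp_apply, pullback.condition, Scheme.Hom.comp_apply, hcases _ (hT.2 t ht), hτη]
  refine (H1Sect.mem_sectionComponents_iff_of_eq f g rfl).2 ?_
  have hpz' : p z ∈ connectedComponentIn (f.base ⁻¹' {f x'}) (g.base (f x')) := hτη ▸ hpz
  show x' ∈ connectedComponentIn (f.base ⁻¹' {f x'}) (g.base (f x'))
  rw [connectedComponentIn_eq hpz']
  refine (hT.1.image p p.continuous.continuousOn).subset_connectedComponentIn ⟨z, hzT, rfl⟩ ?_ ⟨σ η, hσT, (hpσ η).trans hhη⟩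
  rintro _ ⟨t, ht, rfl⟩
  exact hTη t ht

end Groth.Agent.H1W
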