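import Groth.Agent.H1W.Gen
import Groth.Agent.H1Sect.Flat
import Groth.Agent.S2561
import Mathlib

/-!
# The open locus `W` of EGA IV 15.6.8, locally Noetherian case
-/

universe u

set_option backward.isDefEq.respectTransparency false
set_option backward.isDefEq.respectTransparency.types false
set_option maxHeartbeats 1000000
set_option linter.style.haveILetI false

open AlgebraicGeometry CategoryTheory CategoryTheory.Limits TopologicalSpace IsLocalRing

noncomputable section

namespace Groth.Agent.H1W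

variable {X Y : Scheme.{u}}

theorem geomReducedAt_mem_nhds [IsLocallyNoetherian Y] (f : X ⟶ Y) [LocallyOfFiniteType f] (x : X)
    (hopen : ∀ z, z ⤳ x → f z = f x → EGA43.IsUnivOpenAt f z)
    (hred : FBase.IsGeomReducedAt (f.fiberToSpecResidueField (f x)) (f.asFiber x)) :
    {z : X | FBase.IsGeomReducedAt (f.fiberToSpecResidueField (f z)) (f.asFiber z)} ∈ nhds x := by
  let I : Y.IdealSheafData := Scheme.IdealSheafData.vanishingIdeal ⊤
  haveI : IsReduced I.subscheme := inferInstanceAs (IsReduced (Scheme.IdealSheafData.vanishingIdeal ⊤).subscheme)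
  let i := I.subschemeι
  haveI : Surjective i := ⟨by
    rw [← Set.range_eq_univ]
    show Set.range I.subschemeι = _
    rw [Scheme.IdealSheafData.range_subschemeι, Scheme.IdealSheafData.coe_support_vanishingIdeal]
    simp⟩
  let p := pullback.fst f i
  let q := pullback.snd f i
  haveI : IsClosedImmersion p := inferInstanceAs (IsClosedImmersion (pullback.fst f i))
  haveI : Surjective p := inferInstanceAs (Surjective (pullback.fst f i))
  haveI : IsLocallyNoetherian I.subscheme := LocallyOfFiniteType.isLocallyNoetherian i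
  obtain ⟨x₁, rfl⟩ := p.surjective x
  have hpi : f (p x₁) = i (q x₁) := by
    rw [← Scheme.Hom.comp_apply, pullback.condition, Scheme.Hom.comp_apply]
  have hFE : GeomRedFlat5.FE q x₁ := by
    have hE : GeomRedFlat5.E q x₁ := by
      obtain ⟨w, hw, hwr⟩ : ∃ w : ↥(f.fiber (i (q x₁))), f.fiberι (i (q x₁)) w = p x₁ ∧
          FBase.IsGeomReducedAt (f.fiberToSpecResidueField (i (q x₁))) w := by
        rw [← hpi]; exact ⟨_, f.fiberι_asFiber _, hred⟩
      exact H1Sect.isGeomReducedAt_fibre_baseChange f i (q x₁) w _ (by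
        rw [hw]; exact congrArg p (q.fiberι_asFiber x₁)) hwr
    refine ⟨S2561.result q x₁ (fun z hz _ => ?_) hE inferInstance, hE⟩
    refine QHomeo.univOpenAt_of_isPullback (hopen (p (q.fiberι (q x₁) z)) ?_ ?_) (IsPullback.of_hasPullback f i) _ rfl
    · refine Specializes.map ?_ p.continuous
      have := (specializes_iff_mem_closure.2 hz).map (q.fiberι (q x₁)).continuous
      rwa [q.fiberι_asFiber] at this
    · rw [hpi, ← Scheme.Hom.comp_apply, pullback.condition, Scheme.Hom.comp_apply]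
      exact congrArg i ((q.range_fiberι (q x₁)).le ⟨z, rfl⟩)
  have hopenmap : IsOpenMap p :=
    ((Equiv.ofBijective p ⟨p.isClosedEmbedding.injective, p.surjective⟩).toHomeomorphOfContinuousClosed
      p.continuous p.isClosedEmbedding.isClosedMap).isOpenMap
  refine Filter.mem_of_superset ((hopenmap _ (GeomRedFlat5.isOpen_FE_noetherian q)).mem_nhds ⟨x₁, hFE, rfl⟩) ?_
  rintro _ ⟨z, hz, rfl⟩
  exact H1Sect.isGeomReducedAt_fibre_descend (IsPullback.of_hasPullback f i) z hz.2

theorem sectionComponents_mem_nhds [IsLocallyNoetherian Y] (f : X ⟶ Y) [LocallyOfFiniteType f] (g : Y ⟶ X)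
    (hg : g ≫ f = 𝟙 Y)
    (hgi : ∀ (y : Y) (K : Type u) [Field K] [Algebra (IsLocalRing.ResidueField (Y.presheaf.stalk y)) K],
      IsIrreducible ((FBase.bcπ (f.fiberToSpecResidueField y) K ≫ f.fiberι y).base ⁻¹' (connectedComponentIn (f.base ⁻¹' {y}) (g.base y))))
    (y : Y) (hd : ∀ y', y' ⤳ y → topologicalKrullDim ↥(connectedComponentIn (f.base ⁻¹' {y}) (g.base y)) ≤
      topologicalKrullDim ↥(connectedComponentIn (f.base ⁻¹' {y'}) (g.base y')))
    {x : X} (hx : x ∈ connectedComponentIn (f.base ⁻¹' {y}) (g.base y))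
    (hred : FBase.IsGeomReducedAt (f.fiberToSpecResidueField (f x)) (f.asFiber x)) :
    MoreMor.sectionComponents f g ∈ nhds x := by
  haveI : IsLocallyNoetherian X := LocallyOfFiniteType.isLocallyNoetherian f
  obtain ⟨U₁, hU₁, hgU₁, -⟩ := exists_isAffineOpen_mem_and_subset (U := (⊤ : X.Opens)) (x := g y) trivial
  obtain ⟨U₂, hU₂, hxU₂, -⟩ := exists_isAffineOpen_mem_and_subset (U := (⊤ : X.Opens)) (x := x) trivial
  let X₁ : X.Opens := U₁ ⊔ U₂
  have hX₁c : IsCompact (X₁ : Set X) := hU₁.isCompact.union hU₂.isCompact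
  obtain ⟨V, hV, hyV, hVX₁⟩ :=
    exists_isAffineOpen_mem_and_subset (U := g ⁻¹ᵁ X₁) (x := y) (show g y ∈ X₁ from Or.inl hgU₁)
  haveI : IsAffine V.toScheme := hV
  haveI : IsNoetherian V.toScheme := { }
  have hgV : ∀ v, v ∈ V → f (g v) = v := fun v _ => by rw [← Scheme.Hom.comp_apply, hg]; rfl
  let fV := f ∣_ V
  let O : (f ⁻¹ᵁ V).toScheme.Opens := (f ⁻¹ᵁ V).ι ⁻¹ᵁ X₁
  let f₂ := O.ι ≫ fV
  haveI : CompactSpace ↥O.toScheme := by
    refine isCompact_iff_compactSpace.1 ?_
    haveI : NoetherianSpace ↥(X₁ : Set X) := by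
      haveI : CompactSpace ↥X₁.toScheme := isCompact_iff_compactSpace.1 hX₁c
      haveI : IsNoetherian X₁.toScheme := {}
      exact inferInstanceAs (NoetherianSpace ↥X₁.toScheme)
    rw [(f ⁻¹ᵁ V).ι.isOpenEmbedding.isEmbedding.isCompact_iff]
    let s : Set X := (f ⁻¹ᵁ V).ι '' (O : Set ↥(f ⁻¹ᵁ V).toScheme)
    have hs : s ⊆ (X₁ : Set X) := by rintro _ ⟨w, hw, rfl⟩; exact hw
    have h1 := (NoetherianSpace.isCompact (Subtype.val ⁻¹' s : Set ↥(X₁ : Set X))).image continuous_subtype_val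
    rwa [Set.image_preimage_eq_inter_range, Subtype.range_coe, Set.inter_eq_left.2 hs] at h1
  haveI : QuasiCompact f₂ := HasAffineProperty.iff_of_isAffine.2 ‹CompactSpace ↥O.toScheme›
  let t : V.toScheme ⟶ (f ⁻¹ᵁ V).toScheme := IsOpenImmersion.lift (f ⁻¹ᵁ V).ι (V.ι ≫ g) (by
    rintro _ ⟨v, rfl⟩
    rw [Scheme.Opens.range_ι]
    show f (g v.1) ∈ V
    rw [hgV _ v.2]; exact v.2)
  let g₂ : V.toScheme ⟶ O.toScheme := IsOpenImmersion.lift O.ι t (by
    rintro _ ⟨v, rfl⟩
    rw [Scheme.Opens.range_ι]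
    show (f ⁻¹ᵁ V).ι (t v) ∈ X₁
    rw [← Scheme.Hom.comp_apply, IsOpenImmersion.lift_fac]
    exact hVX₁ v.2)
  have hg₂ : g₂ ≫ f₂ = 𝟙 _ := by
    rw [IsOpenImmersion.lift_fac_assoc, ← cancel_mono V.ι, Category.assoc, morphismRestrict_ι,
      IsOpenImmersion.lift_fac_assoc, Category.assoc, hg, Category.comp_id, Category.id_comp]
  let j : O.toScheme ⟶ X := O.ι ≫ (f ⁻¹ᵁ V).ι
  have hjg : ∀ v, j (g₂ v) = g v.1 := fun v => by
    rw [← Scheme.Hom.comp_apply, IsOpenImmersion.lift_fac_assoc, IsOpenImmersion.lift_fac]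
    rfl
  have hjf : ∀ z, f (j z) = (f₂ z).1 := fun z => by
    show f ((f ⁻¹ᵁ V).ι (O.ι z)) = ((O.ι ≫ fV) z).1
    rw [Scheme.Hom.comp_apply]
    exact (morphismRestrict_base_coe f V _).symm
  have hjo : IsOpenMap j := j.isOpenEmbedding.isOpenMap
  -- a point of `X^0` lying in the open subscheme lies in its section components
  have hmem : ∀ z : O.toScheme, j z ∈ MoreMor.sectionComponents f g → z ∈ MoreMor.sectionComponents f₂ g₂ := by
    intro z hz
    have hz' := (H1Sect.mem_sectionComponents_iff_of_eq f g (hjf z)).1 hz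
    refine (H1Sect.mem_sectionComponents_iff_of_eq f₂ g₂ rfl).2 ?_
    have hirr := UnivOpen.irreducible_of_geomIrreducible f hgi (f₂ z).1
    let C := connectedComponentIn (f.base ⁻¹' {(f₂ z).1}) (g.base (f₂ z).1)
    have hpre : _root_.IsPreconnected (j ⁻¹' C) := by
      rw [j.isOpenEmbedding.isInducing.isPreconnected_image.symm, Set.image_preimage_eq_inter_range]
      refine IsPreirreducible.isPreconnected ?_
      intro U U' hU hU' hCU hCU'
      obtain ⟨a, ha⟩ := hirr.2 (U ∩ Set.range j) (U' ∩ Set.range j) (hU.inter j.isOpenEmbedding.isOpen_range)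
        (hU'.inter j.isOpenEmbedding.isOpen_range)
        (by obtain ⟨a, ⟨haC, har⟩, haU⟩ := hCU; exact ⟨a, haC, haU, har⟩)
        (by obtain ⟨a, ⟨haC, har⟩, haU⟩ := hCU'; exact ⟨a, haC, haU, har⟩)
      exact ⟨a, ⟨ha.1, ha.2.1.2⟩, ha.2.1.1, ha.2.2.1⟩
    refine hpre.subset_connectedComponentIn ?_ ?_ hz'
    · show j (g₂ (f₂ z)) ∈ C
      rw [hjg]
      exact mem_connectedComponentIn (hgV _ (f₂ z).2)
    · intro a ha
      exact Subtype.ext ((hjf a).symm.trans (connectedComponentIn_subset (f.base ⁻¹' {(f₂ z).1}) _ ha))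
  have hsub : ∀ z : O.toScheme, z ∈ MoreMor.sectionComponents f₂ g₂ → j z ∈ MoreMor.sectionComponents f g := by
    intro z hz
    refine (H1Sect.mem_sectionComponents_iff_of_eq f g (hjf z)).2 ?_
    have hz' := (H1Sect.mem_sectionComponents_iff_of_eq f₂ g₂ rfl).1 hz
    refine (isPreconnected_connectedComponentIn.image j j.continuous.continuousOn).subset_connectedComponentIn
      ⟨g₂ (f₂ z), mem_connectedComponentIn (by show f₂ (g₂ (f₂ z)) = f₂ z; rw [← Scheme.Hom.comp_apply g₂, hg₂]; rfl),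
        hjg (f₂ z)⟩ ?_ ⟨z, hz', rfl⟩
    rintro _ ⟨a, ha, rfl⟩
    exact (hjf a).trans (congrArg Subtype.val (connectedComponentIn_subset (f₂ ⁻¹' {f₂ z}) _ ha))
  have hfy : f x = y := connectedComponentIn_subset (f.base ⁻¹' {y}) (g.base y) hx
  obtain ⟨x₂, rfl⟩ : x ∈ Set.range j := by
    have hxV : x ∈ f ⁻¹ᵁ V := by show f x ∈ V; rw [hfy]; exact hyV
    exact ⟨⟨⟨x, hxV⟩, (Or.inr hxU₂ : x ∈ X₁)⟩, rfl⟩
  refine Filter.mem_of_superset (hjo.image_mem_nhds (FibDim.mem_nhds_of_generizations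
    (H1Spread.isConstructible_sectionComponents f₂ g₂ hg₂).isLocallyConstructible fun z hz =>
      hmem z (mem_sectionComponents_of_specializes' f g hg hgi y hd hx hred (hz.map j.continuous)))) ?_
  rintro _ ⟨z, hz, rfl⟩
  exact hsub z hz

/-- EGA IV 15.6.8, locally Noetherian case. -/
theorem isOpen_locus [IsLocallyNoetherian Y] (f : X ⟶ Y) [LocallyOfFiniteType f] (g : Y ⟶ X) (hg : g ≫ f = 𝟙 Y)
    (hgi : ∀ (y : Y) (K : Type u) [Field K] [Algebra (IsLocalRing.ResidueField (Y.presheaf.stalk y)) K],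
      IsIrreducible ((FBase.bcπ (f.fiberToSpecResidueField y) K ≫ f.fiberι y).base ⁻¹' (connectedComponentIn (f.base ⁻¹' {y}) (g.base y)))) :
    IsOpen {x : X | x ∈ MoreMor.sectionComponents f g ∧ (∃ V ∈ nhds (f.base x), ∀ z ∈ V, topologicalKrullDim ↥(connectedComponentIn (f.base ⁻¹' {z}) (g.base z)) = topologicalKrullDim ↥(connectedComponentIn (f.base ⁻¹' {(f.base x)}) (g.base (f.base x)))) ∧
      FBase.IsGeomReducedAt (f.fiberToSpecResidueField (f.base x)) (f.asFiber x)} := by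
  rw [isOpen_iff_mem_nhds]
  rintro x ⟨hx, ⟨V, hV, hVc⟩, hred⟩
  have hxC := (H1Sect.mem_sectionComponents_iff_of_eq f g rfl).1 hx
  have hd : ∀ y', y' ⤳ f x → topologicalKrullDim ↥(connectedComponentIn (f.base ⁻¹' {f x}) (g.base (f x))) ≤
      topologicalKrullDim ↥(connectedComponentIn (f.base ⁻¹' {y'}) (g.base y')) :=
    fun y' hy' => (hVc y' (mem_of_mem_nhds (hy' hV))).ge
  filter_upwards [sectionComponents_mem_nhds f g hg hgi (f x) hd hxC hred,
    geomReducedAt_mem_nhds f x (fun z hz hfz => UnivOpen.isUnivOpenAt_sectionComponent f hg hgi hd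
      (mem_component_of_specializes f hxC hfz hz)) hred,
    f.continuous.continuousAt.preimage_mem_nhds (interior_mem_nhds.2 hV)] with z hz hzr hzV
  refine ⟨hz, ⟨interior V, isOpen_interior.mem_nhds hzV, fun w hw => ?_⟩, hzr⟩
  rw [hVc w (interior_subset hw), hVc _ (interior_subset (hzV : f z ∈ interior V))]

end Groth.Agent.H1W
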